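import Groth.Agent.CplFlat.Local
import Mathlib

/-!
# Completion of an unramified local homomorphism
-/

set_option autoImplicit false

universe u

open IsLocalRing

namespace Groth.Agent.EtLocalLib

/-- A module over a complete ring which is separated and finite modulo the ideal is finite. -/
theorem finite_of_complete {R M : Type*} [CommRing R] [AddCommGroup M] [Module R M] (I : Ideal R)
    [IsPrecomplete I R] [IsHausdorff I M] {n : ℕ} (s : Fin n → M)
    (hs : Function.Surjective ((Submodule.mkQ (I • ⊤ : Submodule R M)) ∘ₗ Fintype.linearCombination R s)) :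
    Module.Finite R M := by
  classical
  haveI : IsPrecomplete I (Fin n → R) := by
    refine AdicCompletion.of_surjective_iff.1 fun x => ?_
    choose y hy using fun i => AdicCompletion.of_surjective I R (AdicCompletion.piEquivFin I n x i)
    refine ⟨y, (AdicCompletion.piEquivFin I n).injective ?_⟩
    funext i
    rw [← hy i, AdicCompletion.piEquivFin_apply]
    simp only [AdicCompletion.pi, LinearMap.pi_apply]
    exact AdicCompletion.map_of I _ y
  exact Module.Finite.of_surjective _ (surjective_of_mkQ_comp_surjective hs)

section

variable (A B : Type u) [CommRing A] [CommRing B] [IsLocalRing A] [IsLocalRing B]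
  [IsNoetherianRing A] [IsNoetherianRing B] [Algebra A B] [IsLocalHom (algebraMap A B)]

/-- A local homomorphism is unramified iff the map of completions is. -/
theorem unramified_iff_cpl
    (ψ : AdicCompletion (maximalIdeal A) A →+* AdicCompletion (maximalIdeal B) B)
    (hψ : ψ.comp (algebraMap A (AdicCompletion (maximalIdeal A) A)) =
      (algebraMap B (AdicCompletion (maximalIdeal B) B)).comp (algebraMap A B)) :
    ((maximalIdeal A).map (algebraMap A B) = maximalIdeal B ∧
        Module.Finite (ResidueField A) (ResidueField B) ∧
        Algebra.IsSeparable (ResidueField A) (ResidueField B) →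
      ψ.Finite ∧ ψ.FormallyUnramified) ∧
    (ψ.FiniteType → ψ.FormallyUnramified →
      (maximalIdeal A).map (algebraMap A B) = maximalIdeal B ∧
        Module.Finite (ResidueField A) (ResidueField B) ∧
        Algebra.IsSeparable (ResidueField A) (ResidueField B)) := by
  have hgA : (maximalIdeal A).FG := (maximalIdeal A).fg_of_isNoetherianRing
  have hgB : (maximalIdeal B).FG := (maximalIdeal B).fg_of_isNoetherianRing
  haveI : IsNoetherianRing (A ⧸ maximalIdeal A) :=
    isNoetherianRing_of_surjective A _ (Ideal.Quotient.mk (maximalIdeal A)) Ideal.Quotient.mk_surjective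
  haveI : IsNoetherianRing (B ⧸ maximalIdeal B) :=
    isNoetherianRing_of_surjective B _ (Ideal.Quotient.mk (maximalIdeal B)) Ideal.Quotient.mk_surjective
  haveI := Groth.Agent.CplFlat.isNoetherianRing_completion_of_fg (maximalIdeal A) hgA
  haveI := Groth.Agent.CplFlat.isNoetherianRing_completion_of_fg (maximalIdeal B) hgB
  haveI : Module.Flat B (AdicCompletion (maximalIdeal B) B) :=
    AdicCompletion.flat_of_isNoetherian (maximalIdeal B)
  haveI : Module.FaithfullyFlat B (AdicCompletion (maximalIdeal B) B) :=
    Module.FaithfullyFlat.of_flat_of_isLocalHom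
  letI := ψ.toAlgebra
  have hψA : algebraMap (AdicCompletion (maximalIdeal A) A) (AdicCompletion (maximalIdeal B) B) = ψ :=
    rfl
  have hmap : (maximalIdeal (AdicCompletion (maximalIdeal A) A)).map ψ =
      ((maximalIdeal A).map (algebraMap A B)).map
        (algebraMap B (AdicCompletion (maximalIdeal B) B)) := by
    rw [AdicCompletion.maximalIdeal_eq_map, Ideal.map_map, hψ, Ideal.map_map]
  haveI hloc : IsLocalHom (algebraMap (AdicCompletion (maximalIdeal A) A)
      (AdicCompletion (maximalIdeal B) B)) := by
    refine ((IsLocalRing.local_hom_TFAE _).out 2 0).1 ?_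
    rw [hψA, hmap, AdicCompletion.maximalIdeal_eq_map]
    exact Ideal.map_mono
      (((IsLocalRing.local_hom_TFAE (algebraMap A B)).out 0 2).1 ‹IsLocalHom (algebraMap A B)›)
  have hiff : (maximalIdeal (AdicCompletion (maximalIdeal A) A)).map ψ =
      maximalIdeal (AdicCompletion (maximalIdeal B) B) ↔
      (maximalIdeal A).map (algebraMap A B) = maximalIdeal B := by
    rw [hmap, AdicCompletion.maximalIdeal_eq_map]
    refine ⟨fun h => ?_, fun h => by rw [h]⟩
    have := congrArg (Ideal.comap (algebraMap B (AdicCompletion (maximalIdeal B) B))) h
    rwa [Ideal.comap_map_eq_self_of_faithfullyFlat, Ideal.comap_map_eq_self_of_faithfullyFlat]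
      at this
  let eA := RingEquiv.ofBijective
    (ResidueField.map (algebraMap A (AdicCompletion (maximalIdeal A) A)))
    (AdicCompletion.residueField_map_bijective_of_fg hgA)
  let eB := RingEquiv.ofBijective
    (ResidueField.map (algebraMap B (AdicCompletion (maximalIdeal B) B)))
    (AdicCompletion.residueField_map_bijective_of_fg hgB)
  have hsq : (algebraMap (ResidueField (AdicCompletion (maximalIdeal A) A))
        (ResidueField (AdicCompletion (maximalIdeal B) B))).comp eA.toRingHom =
      eB.toRingHom.comp (algebraMap (ResidueField A) (ResidueField B)) := by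
    refine RingHom.ext fun x => ?_
    obtain ⟨a, rfl⟩ := residue_surjective x
    have h := RingHom.congr_fun hψ a
    simp only [RingHom.comp_apply] at h
    simp only [RingHom.comp_apply, RingEquiv.toRingHom_eq_coe, RingEquiv.coe_toRingHom, eA, eB,
      RingEquiv.ofBijective_apply, ResidueField.map_residue, ResidueField.algebraMap_residue]
    rw [← h]; rfl
  have hsq' : (algebraMap (ResidueField A) (ResidueField B)).comp eA.symm.toRingHom =
      eB.symm.toRingHom.comp (algebraMap (ResidueField (AdicCompletion (maximalIdeal A) A))
        (ResidueField (AdicCompletion (maximalIdeal B) B))) := by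
    refine RingHom.ext fun x => ?_
    obtain ⟨x, rfl⟩ := eA.surjective x
    have h := RingHom.congr_fun hsq x
    simp only [RingHom.comp_apply, RingEquiv.toRingHom_eq_coe, RingEquiv.coe_toRingHom] at h ⊢
    rw [h, RingEquiv.symm_apply_apply, RingEquiv.symm_apply_apply]
  constructor
  · rintro ⟨hm, hfin, hsep⟩
    haveI : Module.Finite (ResidueField (AdicCompletion (maximalIdeal A) A))
        (ResidueField (AdicCompletion (maximalIdeal B) B)) :=
      Module.Finite.of_equiv_equiv eA eB hsq
    haveI : Algebra.IsSeparable (ResidueField (AdicCompletion (maximalIdeal A) A))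
        (ResidueField (AdicCompletion (maximalIdeal B) B)) :=
      Algebra.IsSeparable.of_equiv_equiv eA eB hsq
    have hm' := hiff.2 hm
    haveI : IsHausdorff (maximalIdeal (AdicCompletion (maximalIdeal A) A))
        (AdicCompletion (maximalIdeal B) B) := by
      refine (IsHausdorff.map_algebraMap_iff (S := AdicCompletion (maximalIdeal B) B)
        (M := AdicCompletion (maximalIdeal B) B)).1 ?_
      rw [hψA, hm']
      infer_instance
    obtain ⟨n, t, ht⟩ := Module.Finite.exists_fin
      (R := ResidueField (AdicCompletion (maximalIdeal A) A))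
      (M := ResidueField (AdicCompletion (maximalIdeal B) B))
    choose s hs using fun i => residue_surjective (t i)
    haveI hF : Module.Finite (AdicCompletion (maximalIdeal A) A)
        (AdicCompletion (maximalIdeal B) B) := by
      refine finite_of_complete (maximalIdeal (AdicCompletion (maximalIdeal A) A)) s fun y => ?_
      obtain ⟨b, rfl⟩ := Submodule.mkQ_surjective _ y
      have hb : residue _ b ∈ Submodule.span _ (Set.range t) := ht ▸ Submodule.mem_top
      obtain ⟨c, hc⟩ := Submodule.mem_span_range_iff_exists_fun _ |>.1 hb
      choose d hd using fun i => residue_surjective (c i)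
      refine ⟨d, ?_⟩
      rw [LinearMap.comp_apply, Fintype.linearCombination_apply, Submodule.mkQ_apply,
        Submodule.mkQ_apply, Submodule.Quotient.eq, Ideal.smul_top_eq_map,
        Submodule.restrictScalars_mem, hψA, hm', ← residue_eq_zero_iff, map_sub, sub_eq_zero,
        ← hc, map_sum]
      refine Finset.sum_congr rfl fun i _ => ?_
      rw [Algebra.smul_def, Algebra.smul_def, map_mul, ← hs i, ← hd i,
        ResidueField.algebraMap_residue]
    refine ⟨hF, ?_⟩
    exact Algebra.FormallyUnramified.of_map_maximalIdeal (R := AdicCompletion (maximalIdeal A) A)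
      (S := AdicCompletion (maximalIdeal B) B) (by rwa [hψA])
  · intro hft hfu
    haveI : Algebra.FiniteType (AdicCompletion (maximalIdeal A) A)
        (AdicCompletion (maximalIdeal B) B) := hft
    haveI : Algebra.FormallyUnramified (AdicCompletion (maximalIdeal A) A)
        (AdicCompletion (maximalIdeal B) B) := hfu
    exact ⟨hiff.1 (Algebra.FormallyUnramified.map_maximalIdeal
        (R := AdicCompletion (maximalIdeal A) A) (S := AdicCompletion (maximalIdeal B) B)),
      Module.Finite.of_equiv_equiv eA.symm eB.symm hsq',
      Algebra.IsSeparable.of_equiv_equiv eA.symm eB.symm hsq'⟩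

end

end Groth.Agent.EtLocalLib
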