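import Mathlib
import Groth.Agent.S1482
import Groth.Agent.Rigidity.SinglePoint

/-!
# Étale local splitting of unramified and étale morphisms
-/

universe u

open AlgebraicGeometry CategoryTheory CategoryTheory.Limits TopologicalSpace

namespace Groth.Agent.EtLocalLib

variable {X S : Scheme.{u}}

/-- Finitely many closed sheets over an étale neighbourhood. -/
def Sheets (Q : MorphismProperty Scheme.{u}) (f : X ⟶ S) {ι : Type} (x : ι → X) {U : Scheme.{u}}
    (g : U ⟶ S) (u : U) : Prop :=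
  ∃ (K : Type) (_ : Finite K) (lab : K → ι) (V : K → (pullback f g).Opens),
    (∀ k, Q ((V k).ι ≫ pullback.snd f g) ∧
      ∃ w : ↑(pullback f g), w ∈ V k ∧ pullback.snd f g w = u) ∧
    (∀ (k k' : K) (w : ↑(pullback f g)), w ∈ V k → w ∈ V k' → pullback.snd f g w = u → k = k') ∧
    (∀ (w : ↑(pullback f g)) (i : ι), pullback.snd f g w = u → pullback.fst f g w = x i →
      ∃ k, lab k = i ∧ w ∈ V k)

/-- The inclusion of the restricted base change. -/
noncomputable def shrinkMap (f : X ⟶ S) {U : Scheme.{u}} (g : U ⟶ S) (U' : U.Opens) :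
    pullback f (U'.ι ≫ g) ⟶ pullback f g :=
  pullback.map f (U'.ι ≫ g) f g (𝟙 X) U'.ι (𝟙 S) (by simp) (by simp)

theorem isPullback_shrinkMap (f : X ⟶ S) {U : Scheme.{u}} (g : U ⟶ S) (U' : U.Opens) :
    IsPullback (shrinkMap f g U') (pullback.snd f (U'.ι ≫ g)) (pullback.snd f g) U'.ι := by
  refine IsPullback.of_right ?_ (pullback.lift_snd _ _ _) (IsPullback.of_hasPullback f g)
  rw [show shrinkMap f g U' ≫ pullback.fst f g = pullback.fst f (U'.ι ≫ g) from
    (pullback.lift_fst _ _ _).trans (Category.comp_id _)]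
  exact IsPullback.of_hasPullback f (U'.ι ≫ g)

theorem shrinkMap_fst (f : X ⟶ S) {U : Scheme.{u}} (g : U ⟶ S) (U' : U.Opens)
    (w : ↑(pullback f (U'.ι ≫ g))) :
    pullback.fst f g (shrinkMap f g U' w) = pullback.fst f (U'.ι ≫ g) w := by
  rw [← Scheme.Hom.comp_apply,
    show shrinkMap f g U' ≫ pullback.fst f g = pullback.fst f (U'.ι ≫ g) from
      (pullback.lift_fst _ _ _).trans (Category.comp_id _)]

theorem shrinkMap_snd (f : X ⟶ S) {U : Scheme.{u}} (g : U ⟶ S) (U' : U.Opens)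
    (w : ↑(pullback f (U'.ι ≫ g))) :
    pullback.snd f g (shrinkMap f g U' w) = U'.ι (pullback.snd f (U'.ι ≫ g) w) := by
  rw [← Scheme.Hom.comp_apply, (isPullback_shrinkMap f g U').w, Scheme.Hom.comp_apply]

theorem isPullback_shrink_open (f : X ⟶ S) {U : Scheme.{u}} (g : U ⟶ S) (U' : U.Opens)
    (V : (pullback f g).Opens) :
    IsPullback (shrinkMap f g U' ∣_ V) ((shrinkMap f g U' ⁻¹ᵁ V).ι ≫ pullback.snd f (U'.ι ≫ g))
      (V.ι ≫ pullback.snd f g) U'.ι :=
  (isPullback_morphismRestrict (shrinkMap f g U') V).paste_vert (isPullback_shrinkMap f g U')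

/-- The property near `u` after shrinking. -/
theorem prop_shrink (Q : MorphismProperty Scheme.{u}) [Q.IsStableUnderBaseChange] [Q.RespectsIso]
    (f : X ⟶ S) {U : Scheme.{u}} (g : U ⟶ S) (U₀ U' : U.Opens) (h : U' ≤ U₀) (V : (pullback f g).Opens)
    (hQ : Q ((V.ι ≫ pullback.snd f g) ∣_ U₀)) :
    Q ((shrinkMap f g U' ⁻¹ᵁ V).ι ≫ pullback.snd f (U'.ι ≫ g)) := by
  have big := isPullback_shrink_open f g U' V
  have sq := isPullback_morphismRestrict (V.ι ≫ pullback.snd f g) U₀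
  let t : (shrinkMap f g U' ⁻¹ᵁ V).toScheme ⟶ ((V.ι ≫ pullback.snd f g) ⁻¹ᵁ U₀).toScheme :=
    sq.lift (((shrinkMap f g U' ⁻¹ᵁ V).ι ≫ pullback.snd f (U'.ι ≫ g)) ≫ U.homOfLE h)
      (shrinkMap f g U' ∣_ V) (by rw [Category.assoc, U.homOfLE_ι, ← big.w])
  have hsq : IsPullback t ((shrinkMap f g U' ⁻¹ᵁ V).ι ≫ pullback.snd f (U'.ι ≫ g))
      ((V.ι ≫ pullback.snd f g) ∣_ U₀) (U.homOfLE h) := by
    refine IsPullback.of_right ?_ (sq.lift_fst _ _ _) sq.flip
    rw [sq.lift_snd, U.homOfLE_ι]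
    exact big
  exact MorphismProperty.of_isPullback hsq hQ

theorem mem_of_iSup_shrink (f : X ⟶ S) {U : Scheme.{u}} (g : U ⟶ S) (U' : U.Opens)
    (V : (pullback f g).Opens) {u : U'} (hw : ∃ w : ↑(pullback f g), w ∈ V ∧ pullback.snd f g w = U'.ι u) :
    ∃ w : ↑(pullback f (U'.ι ≫ g)), w ∈ shrinkMap f g U' ⁻¹ᵁ V ∧
      pullback.snd f (U'.ι ≫ g) w = u := by
  obtain ⟨w, hwV, hw⟩ := hw
  obtain ⟨z, hz₁, hz₂⟩ := Scheme.exists_preimage_of_isPullback (isPullback_shrinkMap f g U') w u hw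
  exact ⟨z, show shrinkMap f g U' z ∈ V from hz₁.symm ▸ hwV, hz₂⟩

theorem exists_sheets (Q : MorphismProperty Scheme.{u}) [Q.IsStableUnderBaseChange] [Q.RespectsIso]
    (f : X ⟶ S) (s : S) {ι : Type} [Finite ι] (x : ι → X) (hinj : Function.Injective x)
    (hs : ∀ i, f (x i) = s) (X' : X.Opens) (hX : ∀ i, x i ∈ X') [LocallyOfFiniteType (X'.ι ≫ f)]
    [FormallyUnramified (X'.ι ≫ f)]
    (hloc : ∀ {U : Scheme.{u}} (g : U ⟶ S) [Etale g] (V : (pullback (X'.ι ≫ f) g).Opens)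
      [IsFinite (V.ι ≫ pullback.snd (X'.ι ≫ f) g)] (u : U) (v : V.toScheme),
      (V.ι ≫ pullback.snd (X'.ι ≫ f) g).base ⁻¹' {u} = {v} →
      Function.Surjective ((V.ι ≫ pullback.snd (X'.ι ≫ f) g).residueFieldMap v) →
      ∃ U₀ : U.Opens, u ∈ U₀ ∧ Q ((V.ι ≫ pullback.snd (X'.ι ≫ f) g) ∣_ U₀)) :
    ∃ (U : Scheme.{u}) (g : U ⟶ S) (u : U), Etale g ∧ g u = s ∧ Sheets Q f x g u := by
  let f' := X'.ι ≫ f
  have hqf : ∀ i, f'.QuasiFiniteAt ⟨x i, hX i⟩ := fun i => by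
    change (f'.stalkMap (⟨x i, hX i⟩ : X')).hom.QuasiFinite
    have h1 := FormallyUnramified.stalkMap f' (⟨x i, hX i⟩ : X')
    have h2 := LocallyOfFiniteType.stalkMap f' (⟨x i, hX i⟩ : X')
    algebraize [(f'.stalkMap (⟨x i, hX i⟩ : X')).hom]
    exact inferInstanceAs (Algebra.QuasiFinite _ _)
  obtain ⟨U, g, u, hg, hgu, J, hJ, V, v, hV, hdist, hcov⟩ :=
    Groth.Agent.S1482.result f' s (fun i => (⟨x i, hX i⟩ : X'))
      (fun a b h => hinj (congrArg Subtype.val h)) (fun i => hs i) hqf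
  let K := Σ i, J i
  haveI : Finite K := inferInstance
  have hnear : ∀ k : K, ∃ U₀ : U.Opens, u ∈ U₀ ∧
      Q (((V k.1 k.2).ι ≫ pullback.snd f' g) ∣_ U₀) := by
    rintro ⟨i, j⟩
    obtain ⟨hvV, hfin, hvu, huniq, ⟨-, hpi⟩, -⟩ := hV i j
    haveI := hfin
    let c := (V i j).ι ≫ pullback.snd f' g
    let v' : (V i j).toScheme := ⟨v i j, hvV⟩
    refine hloc g (V i j) u v' ?_ ?_
    · ext w
      exact ⟨fun hw => Subtype.ext (huniq w.1 w.2 hw), fun hw => by
        obtain rfl : w = v' := hw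
        exact hvu⟩
    · rw [Scheme.residueFieldMap_comp]
      refine (ConcreteCategory.bijective_of_isIso ((V i j).ι.residueFieldMap v')).2.comp
        (show Function.Surjective ((pullback.snd f' g).residueFieldMap (v i j)) from ?_)
      haveI : FormallyUnramified (pullback.snd f' g) :=
        MorphismProperty.pullback_snd _ _ inferInstance
      letI := ((pullback.snd f' g).residueFieldMap (v i j)).hom.toAlgebra
      haveI := hpi
      exact IsPurelyInseparable.surjective_algebraMap_of_isSeparable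
        ↑(U.residueField (pullback.snd f' g (v i j))) ↑((pullback f' g).residueField (v i j))
  choose U₀ hu₀ hQ₀ using hnear
  haveI := Fintype.ofFinite K
  let U' : U.Opens := Finset.univ.inf U₀
  have hle : ∀ k, U' ≤ U₀ k := fun k => Finset.inf_le (Finset.mem_univ k)
  have huU' : u ∈ U' := by
    rw [← SetLike.mem_coe, Opens.coe_finset_inf]
    simp only [Finset.inf_eq_iInf, Finset.mem_univ, iInf_pos, Set.iInf_eq_iInter, Set.mem_iInter,
      Function.comp_apply, SetLike.mem_coe]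
    exact hu₀
  -- compare `X' ×_S U'` with `X ×_S U'`
  let m : pullback f' (U'.ι ≫ g) ⟶ pullback f (U'.ι ≫ g) :=
    pullback.map f' (U'.ι ≫ g) f (U'.ι ≫ g) X'.ι (𝟙 _) (𝟙 S) (by simp [f']) (by simp)
  have hm : IsPullback m (pullback.fst f' (U'.ι ≫ g)) (pullback.fst f (U'.ι ≫ g)) X'.ι := by
    refine (IsPullback.of_bot ?_ (pullback.lift_fst _ _ _).symm (IsPullback.of_hasPullback f (U'.ι ≫ g))).flip
    rw [show m ≫ pullback.snd f (U'.ι ≫ g) = pullback.snd f' (U'.ι ≫ g) from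
      (pullback.lift_snd _ _ _).trans (Category.comp_id _)]
    exact IsPullback.of_hasPullback f' (U'.ι ≫ g)
  haveI : IsOpenImmersion m := MorphismProperty.of_isPullback hm.flip inferInstance
  have hm₁ : ∀ w, pullback.fst f (U'.ι ≫ g) (m w) = (pullback.fst f' (U'.ι ≫ g) w).1 := fun w => by
    rw [← Scheme.Hom.comp_apply, hm.w, Scheme.Hom.comp_apply]
    rfl
  have hm₂ : m ≫ pullback.snd f (U'.ι ≫ g) = pullback.snd f' (U'.ι ≫ g) :=
    (pullback.lift_snd _ _ _).trans (Category.comp_id _)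
  have hm₂' : ∀ w, pullback.snd f (U'.ι ≫ g) (m w) = pullback.snd f' (U'.ι ≫ g) w := fun w => by
    rw [← Scheme.Hom.comp_apply, hm₂]
  let V' : K → (pullback f (U'.ι ≫ g)).Opens := fun k =>
    m ''ᵁ (shrinkMap f' g U' ⁻¹ᵁ V k.1 k.2)
  haveI := hg
  refine ⟨U', U'.ι ≫ g, ⟨u, huU'⟩, inferInstance, hgu, K, inferInstance, fun k => k.1, V',
    fun k => ⟨?_, ?_⟩, ?_, ?_⟩
  · have h := prop_shrink Q f' g (U₀ k) U' (hle k) (V k.1 k.2) (hQ₀ k)
    rw [← hm₂, ← Category.assoc, ← m.isoImage_hom_ι, Category.assoc] at h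
    exact (MorphismProperty.cancel_left_of_respectsIso Q _ _).1 h
  · obtain ⟨w, hwV, hw⟩ := mem_of_iSup_shrink f' g U' (V k.1 k.2) (u := ⟨u, huU'⟩)
      ⟨v k.1 k.2, (hV k.1 k.2).1, (hV k.1 k.2).2.2.1⟩
    exact ⟨m w, ⟨w, hwV, rfl⟩, (hm₂' w).trans hw⟩
  · rintro k k' w ⟨a, ha, rfl⟩ ⟨b, hb, hab⟩ hw
    obtain rfl := m.isOpenEmbedding.injective hab
    replace hw := (hm₂' b).symm.trans hw
    have hsnd : pullback.snd f' g (shrinkMap f' g U' b) = u := by
      rw [shrinkMap_snd, hw]; rfl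
    have h1 := (hV k.1 k.2).2.2.2.1 _ ha hsnd
    have h2 := (hV k'.1 k'.2).2.2.2.1 _ hb hsnd
    exact Sigma.ext (hdist _ _ _ _ (h1.symm.trans h2)).1 (hdist _ _ _ _ (h1.symm.trans h2)).2
  · intro w i hw hwx
    obtain ⟨a, rfl, ha⟩ := Scheme.exists_preimage_of_isPullback hm w (⟨x i, hX i⟩ : X') hwx
    replace hw := (hm₂' a).symm.trans hw
    obtain ⟨j, hj⟩ := hcov (shrinkMap f' g U' a) i (by rw [shrinkMap_snd, hw]; rfl)
      (by rw [shrinkMap_fst, ha])
    exact ⟨⟨i, j⟩, rfl, a, show shrinkMap f' g U' a ∈ V i j from hj ▸ (hV i j).1, rfl⟩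

/-- Shrinking the base separates the sheets of a separated morphism. -/
theorem exists_decomposition (Q : MorphismProperty Scheme.{u}) [Q.IsStableUnderBaseChange] [Q.RespectsIso]
    (f : X ⟶ S) [IsSeparated f] (hQ : ∀ {A B : Scheme.{u}} (c : A ⟶ B), Q c → IsClosedImmersion c)
    (s : S) {ι : Type} (x : ι → X)
    (h : ∃ (U : Scheme.{u}) (g : U ⟶ S) (u : U), Etale g ∧ g u = s ∧ Sheets Q f x g u) :
    ∃ (U : Scheme.{u}) (g : U ⟶ S) (u : U), Etale g ∧ g u = s ∧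
      ∃ (K : Type) (_ : Finite K) (W : (pullback f g).Opens) (V : K → (pullback f g).Opens),
        W ⊔ (⨆ k, V k) = ⊤ ∧ (∀ k, Disjoint W (V k)) ∧ (∀ k k', k ≠ k' → Disjoint (V k) (V k')) ∧
        (∀ k, Q ((V k).ι ≫ pullback.snd f g) ∧
          ∃ w : ↑(pullback f g), w ∈ V k ∧ pullback.snd f g w = u) ∧
        (∀ (w : ↑(pullback f g)) (i : ι), w ∈ W → pullback.snd f g w = u → pullback.fst f g w ≠ x i) := by
  classical
  obtain ⟨U, g, u, hg, hgu, K, hK, lab, V, hV, hsep, hcov⟩ := h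
  haveI := hg
  have hclosed : ∀ k, IsClosed ((V k : Set ↑(pullback f g))) := fun k => by
    haveI := hQ _ (hV k).1
    haveI : IsClosedImmersion (V k).ι := .of_comp (V k).ι (pullback.snd f g)
    simpa using (V k).ι.isClosedEmbedding.isClosed_range
  -- the images of the overlaps
  let B : K → K → Set U := fun k k' => if k = k' then ∅ else
    pullback.snd f g '' ((V k : Set ↑(pullback f g)) ∩ V k')
  have hB : ∀ k k', IsClosed (B k k') := fun k k' => by
    by_cases hkk : k = k'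
    · simp [B, hkk]
    · haveI := hQ _ (hV k).1
      have : B k k' = ((V k).ι ≫ pullback.snd f g) '' ((V k).ι ⁻¹' (V k')) := by
        simp only [B, hkk, if_false]
        ext y
        constructor
        · rintro ⟨w, ⟨hw, hw'⟩, rfl⟩
          exact ⟨⟨w, hw⟩, hw', rfl⟩
        · rintro ⟨w, hw', rfl⟩
          exact ⟨w.1, ⟨w.2, hw'⟩, rfl⟩
      rw [this]
      exact ((V k).ι ≫ pullback.snd f g).isClosedEmbedding.isClosedMap _
        ((hclosed k').preimage (V k).ι.continuous)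
  let U' : U.Opens := ⟨(⋃ k, ⋃ k', B k k')ᶜ,
    (isClosed_iUnion_of_finite fun k => isClosed_iUnion_of_finite (hB k)).isOpen_compl⟩
  have huU' : u ∈ U' := by
    simp only [U', ← SetLike.mem_coe, Opens.coe_mk, Set.mem_compl_iff, Set.mem_iUnion, not_exists]
    intro k k' hu
    by_cases hkk : k = k'
    · simp [B, hkk] at hu
    · simp only [B, hkk, if_false] at hu
      obtain ⟨w, ⟨hw, hw'⟩, hwu⟩ := hu
      exact hkk (hsep k k' w hw hw' hwu)
  let r := shrinkMap f g U'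
  let V' : K → (pullback f (U'.ι ≫ g)).Opens := fun k => r ⁻¹ᵁ V k
  have hcl' : IsClosed (⋃ k, (V' k : Set ↑(pullback f (U'.ι ≫ g)))) :=
    isClosed_iUnion_of_finite fun k => (hclosed k).preimage r.continuous
  refine ⟨U', U'.ι ≫ g, ⟨u, huU'⟩, inferInstance, hgu, K, hK, ⟨_, hcl'.isOpen_compl⟩, V',
    ?_, ?_, ?_, fun k => ⟨?_, ?_⟩, ?_⟩
  · refine eq_top_iff.2 fun w _ => ?_
    by_cases hw : w ∈ ⋃ k, (V' k : Set ↑(pullback f (U'.ι ≫ g)))
    · obtain ⟨k, hk⟩ := Set.mem_iUnion.1 hw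
      exact Or.inr (Opens.mem_iSup.2 ⟨k, hk⟩)
    · exact Or.inl hw
  · intro k
    rw [disjoint_iff]
    exact eq_bot_iff.2 fun w hw => (hw.1 (Set.mem_iUnion.2 ⟨k, hw.2⟩)).elim
  · intro k k' hkk
    rw [disjoint_iff]
    refine eq_bot_iff.2 fun w hw => ((?_ : False)).elim
    have hmem : pullback.snd f g (r w) ∈ U' := by
      rw [shrinkMap_snd]
      exact (pullback.snd f (U'.ι ≫ g) w).2
    exact hmem (Set.mem_iUnion.2 ⟨k, Set.mem_iUnion.2 ⟨k', by
      simp only [B, hkk, if_false]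
      exact ⟨r w, ⟨hw.1, hw.2⟩, rfl⟩⟩⟩)
  · exact MorphismProperty.of_isPullback (isPullback_shrink_open f g U' (V k)) (hV k).1
  · exact mem_of_iSup_shrink f g U' (V k) (hV k).2
  · intro w i hw hwu hwx
    obtain ⟨k, -, hk⟩ := hcov (r w) i (by rw [shrinkMap_snd, hwu]; rfl) (by rw [shrinkMap_fst, hwx])
    exact hw (Set.mem_iUnion.2 ⟨k, hk⟩)

/-- A property local at the source on a union of opens. -/
theorem prop_iSup (P : MorphismProperty Scheme.{u}) [IsZariskiLocalAtSource P] (f : X ⟶ S) {ι : Type}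
    (W : ι → X.Opens) (h : ∀ i, P ((W i).ι ≫ f)) : P ((⨆ i, W i).ι ≫ f) := by
  let T := (⨆ i, W i)
  refine (IsZariskiLocalAtSource.iff_of_iSup_eq_top (fun i : ι => T.ι ⁻¹ᵁ W i) ?_).2 fun i => ?_
  · rw [← Scheme.Hom.preimage_iSup]
    exact T.ι_preimage_self
  · rw [← Category.assoc, ← morphismRestrict_ι, Category.assoc]
    exact IsZariskiLocalAtSource.comp (h i) _

theorem exists_sheets_of_unramified (f : X ⟶ S) (s : S) {ι : Type} [Finite ι] (x : ι → X)
    (hinj : Function.Injective x) (hs : ∀ i, f (x i) = s)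
    (hx : ∀ i, ∃ W : X.Opens, x i ∈ W ∧ LocallyOfFiniteType (W.ι ≫ f) ∧ FormallyUnramified (W.ι ≫ f)) :
    ∃ (U : Scheme.{u}) (g : U ⟶ S) (u : U), Etale g ∧ g u = s ∧
      Sheets @IsClosedImmersion f x g u := by
  choose W hW hft hfu using hx
  haveI : LocallyOfFiniteType ((⨆ i, W i).ι ≫ f) := prop_iSup @LocallyOfFiniteType f W hft
  haveI : FormallyUnramified ((⨆ i, W i).ι ≫ f) := prop_iSup @FormallyUnramified f W hfu
  refine exists_sheets @IsClosedImmersion f s x hinj hs (⨆ i, W i)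
    (fun i => Opens.mem_iSup.2 ⟨i, hW i⟩) fun {U} g _ V _ u v hfib hres => ?_
  haveI : FormallyUnramified (pullback.snd ((⨆ i, W i).ι ≫ f) g) :=
    MorphismProperty.pullback_snd _ _ inferInstance
  haveI : FormallyUnramified (V.ι ≫ pullback.snd ((⨆ i, W i).ι ≫ f) g) :=
    MorphismProperty.comp_mem _ _ _ inferInstance inferInstance
  obtain ⟨U₀, hu, hU₀⟩ := Rigidity.exists_isClosedImmersion _ u v hfib hres
  exact ⟨U₀, hu, hU₀ U₀ le_rfl⟩

theorem exists_sheets_of_etale (f : X ⟶ S) (s : S) {ι : Type} [Finite ι] (x : ι → X)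
    (hinj : Function.Injective x) (hs : ∀ i, f (x i) = s)
    (hx : ∀ i, ∃ W : X.Opens, x i ∈ W ∧ Etale (W.ι ≫ f)) :
    ∃ (U : Scheme.{u}) (g : U ⟶ S) (u : U), Etale g ∧ g u = s ∧
      Sheets (MorphismProperty.isomorphisms Scheme.{u}) f x g u := by
  choose W hW het using hx
  haveI : Etale ((⨆ i, W i).ι ≫ f) := prop_iSup @Etale f W het
  refine exists_sheets (MorphismProperty.isomorphisms Scheme.{u}) f s x hinj hs (⨆ i, W i)
    (fun i => Opens.mem_iSup.2 ⟨i, hW i⟩) fun {U} g _ V _ u v hfib hres => ?_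
  haveI : Etale (pullback.snd ((⨆ i, W i).ι ≫ f) g) := MorphismProperty.pullback_snd _ _ inferInstance
  obtain ⟨U₀, hu, hU₀⟩ := Rigidity.exists_isIso _ u v hfib hres
  exact ⟨U₀, hu, hU₀⟩

end Groth.Agent.EtLocalLib
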