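import Mathlib
import Groth.Agent.S9566

/-!
# Local structure of étale and unramified homomorphisms of local rings
-/

universe u

open IsLocalRing TensorProduct

namespace Groth.Agent.EtLocalLib

variable {A B : Type u} [CommRing A] [CommRing B] [Algebra A B]

/-- The local rings at étale points are flat. -/
theorem flat_localization_of_isEtaleAt [Algebra.FinitePresentation A B] (q : Ideal B) [q.IsPrime]
    [Algebra.IsEtaleAt A q] : Module.Flat A (Localization.AtPrime q) := by
  obtain ⟨g, hg, hget⟩ := Algebra.exists_etale_of_isEtaleAt (R := A) q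
  let f : Localization.Away g →ₐ[B] Localization.AtPrime q :=
    IsLocalization.liftAlgHom (M := Submonoid.powers g) (f := Algebra.ofId B _) (by
      rintro ⟨_, n, rfl⟩
      exact IsLocalization.map_units (Localization.AtPrime q)
        (⟨g ^ n, fun h => hg (Ideal.IsPrime.mem_of_pow_mem inferInstance n h)⟩ : q.primeCompl))
  algebraize [f.toRingHom]
  haveI : IsScalarTower B (Localization.Away g) (Localization.AtPrime q) :=
    IsScalarTower.of_algebraMap_eq fun b => (f.commutes b).symm
  haveI : IsScalarTower A (Localization.Away g) (Localization.AtPrime q) :=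
    .to₁₃₄ _ B _ _
  haveI : IsLocalization (Algebra.algebraMapSubmonoid (Localization.Away g) q.primeCompl)
      (Localization.AtPrime q) :=
    .isLocalization_of_submonoid_le _ _ (Submonoid.powers g) _
      (Submonoid.powers_le.2 hg)
  haveI : Module.Flat (Localization.Away g) (Localization.AtPrime q) :=
    IsLocalization.flat _ (Algebra.algebraMapSubmonoid (Localization.Away g) q.primeCompl)
  exact Module.Flat.trans A (Localization.Away g) (Localization.AtPrime q)

/-- The criterion for étale points over a Noetherian base. -/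
theorem isEtaleAt_iff [IsNoetherianRing A] [Algebra.FiniteType A B] (p : Ideal A) [p.IsPrime]
    (q : Ideal B) [q.IsPrime] [q.LiesOver p]
    [Algebra (Localization.AtPrime p) (Localization.AtPrime q)]
    [Localization.AtPrime.IsLiesOverAlgebra p q] :
    Algebra.IsEtaleAt A q ↔
      Module.Flat (Localization.AtPrime p) (Localization.AtPrime q) ∧
        p.map (algebraMap A (Localization.AtPrime q)) = maximalIdeal (Localization.AtPrime q) ∧
        Module.Finite p.ResidueField q.ResidueField ∧
        Algebra.IsSeparable p.ResidueField q.ResidueField := by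
  haveI : Algebra.FinitePresentation A B := Algebra.FinitePresentation.of_finiteType.1 inferInstance
  constructor
  · intro h
    haveI : Algebra.IsUnramifiedAt A q :=
      (Algebra.FormallyEtale.iff_formallyUnramified_and_formallySmooth.1 h).1
    obtain ⟨hs, hm⟩ := (Algebra.isUnramifiedAt_iff_map_eq A p q).1 inferInstance
    haveI := flat_localization_of_isEtaleAt (A := A) q
    exact ⟨(Module.flat_iff_of_isLocalization (Localization.AtPrime p) p.primeCompl
      (Localization.AtPrime q)).2 inferInstance, hm, inferInstance, hs⟩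
  · rintro ⟨hfl, hm, -, hs⟩
    haveI : Algebra.IsUnramifiedAt A q := (Algebra.isUnramifiedAt_iff_map_eq A p q).2 ⟨hs, hm⟩
    exact S9566.isEtaleAt_of_local p q

/-- A local essentially finite type algebra is the localisation at a prime of a finite type one. -/
theorem exists_atPrime [IsLocalRing B] [Algebra.EssFiniteType A B] :
    ∃ (S : Type u) (_ : CommRing S) (_ : Algebra A S) (_ : Algebra.FiniteType A S) (Q : Ideal S)
      (_ : Q.IsPrime), Nonempty (B ≃ₐ[A] Localization.AtPrime Q) := by
  let S := Algebra.EssFiniteType.subalgebra A B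
  let Q : Ideal S := (maximalIdeal B).comap (algebraMap S B)
  haveI : Q.IsPrime := Ideal.IsPrime.comap _
  haveI : IsLocalization.AtPrime B Q := by
    have h : Algebra.EssFiniteType.submonoid A B = Q.primeCompl := by
      ext x
      exact (not_not (a := IsUnit (algebraMap S B x))).symm
    change IsLocalization Q.primeCompl B
    rw [← h]
    infer_instance
  exact ⟨S, inferInstance, inferInstance, inferInstance, Q, inferInstance,
    ⟨(IsLocalization.algEquiv Q.primeCompl B (Localization.AtPrime Q)).restrictScalars A⟩⟩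

/-- A surjection onto `S_f` gives a surjection on local rings, bijective if it is. -/
theorem exists_localization_surjection {S C : Type u} [CommRing S] [Algebra A S] [CommRing C]
    [Algebra A C] (Q : Ideal S) [Q.IsPrime] {f : S} (hf : f ∉ Q)
    (φ : C →ₐ[A] Localization.Away f) (hφ : Function.Surjective φ) :
    ∃ (𝔮 : Ideal C) (_ : 𝔮.IsPrime) (ψ : Localization.AtPrime 𝔮 →ₐ[A] Localization.AtPrime Q),
      Function.Surjective ψ ∧ (Function.Injective φ → Function.Injective ψ) := by
  let ι : Localization.Away f →ₐ[S] Localization.AtPrime Q :=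
    IsLocalization.liftAlgHom (M := Submonoid.powers f) (f := Algebra.ofId S _) (by
      rintro ⟨_, n, rfl⟩
      exact IsLocalization.map_units (Localization.AtPrime Q)
        (⟨f ^ n, fun h => hf (Ideal.IsPrime.mem_of_pow_mem inferInstance n h)⟩ : Q.primeCompl))
  let h : C →ₐ[A] Localization.AtPrime Q := (ι.restrictScalars A).comp φ
  let 𝔮 : Ideal C := (maximalIdeal (Localization.AtPrime Q)).comap h
  haveI : 𝔮.IsPrime := Ideal.IsPrime.comap _
  have hu : ∀ y : 𝔮.primeCompl, IsUnit (h y) := fun y => not_not.1 fun hy => y.2 hy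
  let ψ : Localization.AtPrime 𝔮 →ₐ[A] Localization.AtPrime Q :=
    IsLocalization.liftAlgHom (M := 𝔮.primeCompl) (f := h) hu
  have hψ : ∀ c, ψ (algebraMap C _ c) = h c := fun c => IsLocalization.lift_eq _ c
  -- elements of `S` come from `C`
  have hlift : ∀ s : S, ∃ c, h c = algebraMap S (Localization.AtPrime Q) s := fun s => by
    obtain ⟨c, hc⟩ := hφ (algebraMap S _ s)
    exact ⟨c, (congrArg ι hc).trans (ι.commutes s)⟩
  refine ⟨𝔮, inferInstance, ψ, fun y => ?_, fun hinj => ?_⟩
  · obtain ⟨s, t, rfl⟩ := IsLocalization.exists_mk'_eq Q.primeCompl y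
    obtain ⟨a, ha⟩ := hlift s
    obtain ⟨b, hb⟩ := hlift t
    have hbm : b ∈ 𝔮.primeCompl := fun hm => by
      exact hm (hb ▸ IsLocalization.map_units (Localization.AtPrime Q) t : IsUnit (h b))
    refine ⟨IsLocalization.mk' _ a ⟨b, hbm⟩, ?_⟩
    refine ((IsLocalization.map_units (Localization.AtPrime Q) t).mul_left_inj).1 ?_
    rw [IsLocalization.mk'_spec, ← ha, ← hb, ← hψ, ← hψ, ← map_mul, IsLocalization.mk'_spec]
  · rw [injective_iff_map_eq_zero]
    intro y hy
    obtain ⟨c, d, rfl⟩ := IsLocalization.exists_mk'_eq 𝔮.primeCompl y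
    have hc : h c = 0 := by
      have h1 := congrArg (· * ψ (algebraMap C _ d.1)) hy
      rw [zero_mul, ← map_mul, IsLocalization.mk'_spec, hψ] at h1
      exact h1
    obtain ⟨⟨s, t⟩, hs⟩ := IsLocalization.surj (Submonoid.powers f) (φ c)
    have hts : ι (φ c) * ι (algebraMap S _ t.1) = ι (algebraMap S _ s) := by rw [← map_mul, hs]
    rw [show ι (φ c) = 0 from hc, zero_mul, ι.commutes] at hts
    obtain ⟨v, hv⟩ := (IsLocalization.map_eq_zero_iff Q.primeCompl _ s).1 hts.symm
    obtain ⟨w, hw⟩ := hφ (algebraMap S _ v.1)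
    have hwm : w ∈ 𝔮.primeCompl := fun hm => by
      refine hm (show IsUnit (h w) from ?_)
      change IsUnit (ι (φ w))
      rw [hw, ι.commutes]
      exact IsLocalization.map_units _ v
    rw [IsLocalization.mk'_eq_zero_iff]
    refine ⟨⟨w, hwm⟩, hinj ?_⟩
    rw [map_zero, map_mul, hw]
    refine (IsLocalization.map_units (Localization.Away f) t).mul_left_eq_zero.1 ?_
    rw [mul_assoc, hs, ← map_mul, hv, map_zero]

/-- An unramified homomorphism of local rings is a quotient of a localised standard étale algebra. -/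
theorem exists_standardEtale_quotient [IsLocalRing A] [IsLocalRing B] [IsLocalHom (algebraMap A B)]
    [Algebra.EssFiniteType A B] (hm : (maximalIdeal A).map (algebraMap A B) = maximalIdeal B)
    [Algebra.IsSeparable (ResidueField A) (ResidueField B)] :
    ∃ (P : StandardEtalePair A) (𝔮 : Ideal P.Ring) (_ : 𝔮.IsPrime) (I : Ideal (Localization.AtPrime 𝔮)),
      Nonempty (B ≃ₐ[A] (Localization.AtPrime 𝔮 ⧸ I)) := by
  obtain ⟨S, _, _, _, Q, _, ⟨e⟩⟩ := exists_atPrime (A := A) (B := B)
  haveI : Algebra.FormallyUnramified A B := Algebra.FormallyUnramified.of_map_maximalIdeal hm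
  haveI : Algebra.IsUnramifiedAt A Q := Algebra.FormallyUnramified.of_equiv e
  obtain ⟨f, hf, H⟩ := Algebra.IsUnramifiedAt.exists_hasStandardEtaleSurjectionOn (R := A) Q
  obtain ⟨P, φ, hφ⟩ := H
  obtain ⟨𝔮, h𝔮, ψ, hψ, -⟩ := exists_localization_surjection Q hf φ hφ
  exact ⟨P, 𝔮, h𝔮, RingHom.ker ψ, ⟨e.trans (Ideal.quotientKerAlgEquivOfSurjective hψ).symm⟩⟩

/-- An étale homomorphism of Noetherian local rings is a localised standard étale algebra. -/
theorem exists_standardEtale [IsLocalRing A] [IsLocalRing B] [IsNoetherianRing A]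
    [IsLocalHom (algebraMap A B)] [Algebra.EssFiniteType A B] [Module.Flat A B]
    (hm : (maximalIdeal A).map (algebraMap A B) = maximalIdeal B)
    [Algebra.IsSeparable (ResidueField A) (ResidueField B)] :
    ∃ (P : StandardEtalePair A) (𝔮 : Ideal P.Ring) (_ : 𝔮.IsPrime),
      Nonempty (B ≃ₐ[A] Localization.AtPrime 𝔮) := by
  obtain ⟨S, _, _, _, Q, _, ⟨e⟩⟩ := exists_atPrime (A := A) (B := B)
  haveI : Algebra.FinitePresentation A S := Algebra.FinitePresentation.of_finiteType.1 inferInstance
  haveI : Algebra.FormallyUnramified A B := Algebra.FormallyUnramified.of_map_maximalIdeal hm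
  haveI : Algebra.IsUnramifiedAt A Q := Algebra.FormallyUnramified.of_equiv e
  haveI : Module.Flat A (Localization.AtPrime Q) := Module.Flat.of_linearEquiv e.symm.toLinearEquiv
  let p := Q.under A
  letI := Localization.AtPrime.algebraOfLiesOver p Q
  haveI : Module.Flat (Localization.AtPrime p) (Localization.AtPrime Q) :=
    (Module.flat_iff_of_isLocalization (Localization.AtPrime p) p.primeCompl
      (Localization.AtPrime Q)).2 inferInstance
  haveI : Algebra.IsEtaleAt A Q := S9566.isEtaleAt_of_local p Q
  obtain ⟨f, hf, hstd⟩ := Algebra.IsEtaleAt.exists_isStandardEtale (R := A) Q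
  obtain ⟨⟨P⟩⟩ := hstd
  obtain ⟨𝔮, h𝔮, ψ, hψ, hinj⟩ :=
    exists_localization_surjection Q hf P.equivRing.symm.toAlgHom P.equivRing.symm.surjective
  exact ⟨P.P, 𝔮, h𝔮, ⟨e.trans (AlgEquiv.ofBijective ψ ⟨hinj P.equivRing.symm.injective, hψ⟩).symm⟩⟩

/-- Vanishing of the differentials at a prime, read in a presentation. -/
theorem subsingleton_kaehler_iff {P : Type u} [CommRing P] [Algebra A P] (φ : P →ₐ[A] B)
    (hφ : Function.Surjective φ) (q : Ideal B) [q.IsPrime] :
    Subsingleton (LocalizedModule q.primeCompl (KaehlerDifferential A B)) ↔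
      Submodule.span (Localization.AtPrime (q.comap φ.toRingHom))
        ((LocalizedModule.mkLinearMap (q.comap φ.toRingHom).primeCompl (KaehlerDifferential A P)) ''
          ((KaehlerDifferential.D A P) '' (RingHom.ker φ.toRingHom : Set P))) = ⊤ := by
  algebraize [φ.toRingHom]
  haveI : IsScalarTower A P B := IsScalarTower.of_algebraMap_eq fun a => (φ.commutes a).symm
  let 𝔮 := q.comap φ.toRingHom
  haveI : 𝔮.IsPrime := Ideal.IsPrime.comap _
  let N := Submodule.span P ((KaehlerDifferential.D A P) '' (RingHom.ker φ.toRingHom : Set P))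
  let π := KaehlerDifferential.map A A P B
  have hπ : Function.Surjective π := KaehlerDifferential.map_surjective_of_surjective A A P B hφ
  have hIN : ∀ i ∈ RingHom.ker φ.toRingHom, ∀ ω : KaehlerDifferential A P, i • ω ∈ N := by
    intro i hi ω
    have hω : ω ∈ Submodule.span P (Set.range (KaehlerDifferential.D A P)) := by
      rw [KaehlerDifferential.span_range_derivation]; trivial
    induction hω using Submodule.span_induction with
    | mem ω hω =>
      obtain ⟨a, rfl⟩ := hω
      have h1 : KaehlerDifferential.D A P (i * a) ∈ N :=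
        Submodule.subset_span ⟨i * a, Ideal.mul_mem_right a _ hi, rfl⟩
      rw [Derivation.leibniz] at h1
      exact (Submodule.add_mem_iff_left N (N.smul_mem a (Submodule.subset_span ⟨i, hi, rfl⟩))).1 h1
    | zero => rw [smul_zero]; exact N.zero_mem
    | add a b _ _ ha hb => rw [smul_add]; exact N.add_mem ha hb
    | smul c a _ ha => rw [smul_comm]; exact N.smul_mem c ha
  have hker : LinearMap.ker π = N := by
    refine le_antisymm (fun ω hω => ?_) (Submodule.span_le.2 ?_)
    · have h0 : KaehlerDifferential.mapBaseChange A P B (1 ⊗ₜ ω) = 0 := by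
        rw [KaehlerDifferential.mapBaseChange_tmul, one_smul]; exact hω
      obtain ⟨z, hz⟩ := (KaehlerDifferential.exact_kerCotangentToTensor_mapBaseChange A P B hφ _).1 h0
      obtain ⟨⟨i, hi⟩, rfl⟩ := Ideal.toCotangent_surjective _ z
      rw [KaehlerDifferential.kerCotangentToTensor_toCotangent] at hz
      have h1 : (1 : B) ⊗ₜ[P] (ω - KaehlerDifferential.D A P i) = 0 := by
        rw [TensorProduct.tmul_sub, ← hz, sub_self]
      let I := RingHom.ker (algebraMap P B)
      let e : (P ⧸ I) ≃ₐ[P] B := Ideal.quotientKerAlgEquivOfSurjective (f := Algebra.ofId P B) hφ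
      let E : B ⊗[P] KaehlerDifferential A P ≃ₗ[P]
          (KaehlerDifferential A P) ⧸ I • (⊤ : Submodule P (KaehlerDifferential A P)) :=
        (TensorProduct.congr e.toLinearEquiv.symm (LinearEquiv.refl P _)).trans
          (TensorProduct.quotTensorEquivQuotSMul (KaehlerDifferential A P) I)
      have h2 : ω - KaehlerDifferential.D A P i ∈
          I • (⊤ : Submodule P (KaehlerDifferential A P)) := by
        rw [← Submodule.Quotient.mk_eq_zero, ← E.map_eq_zero_iff.2 h1]
        simp [E, I]
      have h3 := N.add_mem ((Submodule.smul_le.2 fun r hr m _ => hIN r hr m) h2)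
        (Submodule.subset_span ⟨i, hi, rfl⟩)
      rwa [sub_add_cancel] at h3
    · rintro _ ⟨x, hx, rfl⟩
      rw [SetLike.mem_coe, LinearMap.mem_ker, KaehlerDifferential.map_D,
        show algebraMap P B x = 0 from hx, map_zero]
  have hloc : Submodule.span (Localization.AtPrime 𝔮)
      ((LocalizedModule.mkLinearMap 𝔮.primeCompl (KaehlerDifferential A P)) ''
        ((KaehlerDifferential.D A P) '' (RingHom.ker φ.toRingHom : Set P))) =
      Submodule.localized' (Localization.AtPrime 𝔮) 𝔮.primeCompl
        (LocalizedModule.mkLinearMap 𝔮.primeCompl (KaehlerDifferential A P)) N :=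
    (Submodule.localized'_span _ _ _ _).symm
  rw [hloc, LocalizedModule.subsingleton_iff, Submodule.eq_top_iff']
  constructor
  · intro h y
    obtain ⟨⟨x, s⟩, rfl⟩ := IsLocalizedModule.mk'_surjective 𝔮.primeCompl
      (LocalizedModule.mkLinearMap 𝔮.primeCompl (KaehlerDifferential A P)) y
    obtain ⟨r, hr, hr0⟩ := h (π x)
    obtain ⟨r, rfl⟩ := hφ r
    have hrN : r • x ∈ N := by
      rw [← hker, LinearMap.mem_ker, map_smul, ← algebraMap_smul B r (π x)]
      exact hr0
    exact ⟨r • x, hrN, (⟨r, hr⟩ : 𝔮.primeCompl) * s, IsLocalizedModule.mk'_cancel_left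
      (LocalizedModule.mkLinearMap 𝔮.primeCompl (KaehlerDifferential A P)) x (⟨r, hr⟩ : 𝔮.primeCompl) s⟩
  · intro h m
    obtain ⟨x, rfl⟩ := hπ m
    obtain ⟨y, hy, t, ht⟩ := h (LocalizedModule.mkLinearMap 𝔮.primeCompl (KaehlerDifferential A P) x)
    rw [IsLocalizedModule.mk'_eq_iff, Submonoid.smul_def, ← map_smul] at ht
    obtain ⟨v, hv⟩ := IsLocalizedModule.exists_of_eq (S := 𝔮.primeCompl) ht
    rw [Submonoid.smul_def, Submonoid.smul_def] at hv
    have hs : ((v * t : 𝔮.primeCompl) : P) • x ∈ N := by
      rw [Submonoid.coe_mul, mul_smul, ← hv]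
      exact N.smul_mem _ hy
    refine ⟨φ ((v * t : 𝔮.primeCompl) : P), (v * t).2, ?_⟩
    rw [← hker, LinearMap.mem_ker, map_smul, ← algebraMap_smul B ((v * t : 𝔮.primeCompl) : P) (π x)] at hs
    exact hs

end Groth.Agent.EtLocalLib
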